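import Groth.Agent.FlatBC.Opens
import Groth.Agent.CohBase.PushFunctorial
import Groth.Agent.ProperFin.PushHH
import Groth.Agent.PullbackMod.Flat
import Groth.Agent.QCohLib.Push
import Groth.Agent.ProjCoh.PSData

/-!
# Flat base change of the cohomology of quasi-coherent modules over an affine base
-/

set_option autoImplicit false

universe u

open CategoryTheory Limits Opposite TopologicalSpace AlgebraicGeometry
open Groth.Agent.CohBase
open scoped TensorProduct

noncomputable section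

namespace Groth.Agent.FlatBC

variable {X X' : Scheme.{u}} (g : X' ⟶ X) (M : X.Modules)
variable {A B : Type u} [CommRing A] [CommRing B] [Algebra A B]
variable (ψ : A →+* Coh.Γtop X) (ψ' : B →+* Coh.Γtop X')
variable (hψ : ∀ a, ψ' (algebraMap A B a) = ProperFin.gTop g (ψ a))

/-- The inverse image, pushed forward again. -/
abbrev gM : X'.Modules := (Scheme.Modules.pullback g).obj M

/-- The comparison data for a base change. -/
def datum : Datum (AbSh X) A B where
  F := Coh.toAb M
  N := (pushS g.base).obj (Coh.toAb (gM g M))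
  ρ :=
    { toFun := fun a => Coh.smulAb M (ψ a)
      map_one' := by rw [map_one, Coh.smulAb_one]; rfl
      map_mul' := fun a b => by rw [map_mul, Coh.smulAb_mul]; rfl
      map_zero' := by rw [map_zero, Coh.smulAb_zero]
      map_add' := fun a b => by rw [map_add, Coh.smulAb_add] }
  σ :=
    { toFun := fun b => (pushS g.base).map (Coh.smulAb (gM g M) (ψ' b))
      map_one' := by rw [map_one, Coh.smulAb_one, CategoryTheory.Functor.map_id]; rfl
      map_mul' := fun a b => by rw [map_mul, Coh.smulAb_mul, Functor.map_comp]; rfl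
      map_zero' := by rw [map_zero, Coh.smulAb_zero, Functor.map_zero]
      map_add' := fun a b => by rw [map_add, Coh.smulAb_add, Functor.map_add] }
  η := (QCohLib.toAbF X).map ((Scheme.Modules.pullbackPushforwardAdjunction g).unit.app M)
  comm a := by
    refine (ProjCoh.smulAb_natural ((Scheme.Modules.pullbackPushforwardAdjunction g).unit.app M) (ψ a)).trans ?_
    show _ ≫ Coh.smulAb ((Scheme.Modules.pushforward g).obj (gM g M)) (ψ a) =
      _ ≫ (pushS g.base).map (Coh.smulAb (gM g M) (ψ' (algebraMap A B a)))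
    rw [ProperFin.smulAb_push, hψ]
    rfl

/-- Cohomology on the whole space in terms of Ext. -/
def hhE (n : ℕ) :
    letI : Module A (Coh.HH X M n) := Module.compHom _ ψ
    Coh.HH X M n ≃ₗ[A] E.{u} (datum g M ψ ψ' hψ) (freeAb ⊤) n :=
  letI : Module A (Coh.HH X M n) := Module.compHom _ ψ
  { (HHEquiv M n) with
    map_smul' := fun a x => (HEquiv_map (Coh.smulAb M (ψ a)) n x).trans (hmap_apply _ _ _) }

variable [IsAffineHom g] [Coh.IsQCoh M]

instance isQCoh_gM : Coh.IsQCoh (gM g M) := PullbackMod.isQCoh_pullback g M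

lemma pushAcyclic : PushAcyclic g.base (fun V : X.Opens => IsAffineOpen V) (Coh.toAb (gM g M)) :=
  fun V hV m => affine_vanishing (gM g M) (hV.preimage g) m

/-- Base change of cohomology, given the comparison on affine opens in degree zero. -/
theorem nonempty_baseChange [Module.Flat A B] [CompactSpace X] [QuasiSeparatedSpace X]
    (h0 : ∀ U : X.Opens, IsAffineOpen U → Good.{u} (datum g M ψ ψ' hψ) (freeAb U) 0) (n : ℕ) :
    letI : Module A (Coh.HH X M n) := Module.compHom _ ψ
    letI : Module B (Coh.HH X' (gM g M) n) := Module.compHom _ ψ'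
    Nonempty (B ⊗[A] Coh.HH X M n ≃ₗ[B] Coh.HH X' (gM g M) n) := by
  letI : Module A (Coh.HH X M n) := Module.compHom _ ψ
  letI : Module B (Coh.HH X' (gM g M) n) := Module.compHom _ ψ'
  let D := datum g M ψ ψ' hψ
  haveI : Coh.IsQCoh ((Scheme.Modules.pushforward g).obj (gM g M)) := QCohLib.isQCoh_pushforward (gM g M) g
  have hgood := goodU_of_affine D (fun U hU m => affine_vanishing M hU m)
    (fun U hU m => affine_vanishing ((Scheme.Modules.pushforward g).obj (gM g M)) hU m) h0 ⊤ isCompact_univ n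
  obtain ⟨e, he⟩ := exists_pushNatEquiv g.base (B := fun V : X.Opens => IsAffineOpen V)
    (fun W y hy => by
      obtain ⟨_, ⟨V : X.Opens, hV, rfl⟩, hyV, hVW⟩ :=
        X.isBasis_affineOpens.exists_subset_of_mem_open (a := y) hy W.2
      exact ⟨V, hV, hyV, hVW⟩) n
  let hN := pushAcyclic g M
  let i : B ⊗[A] Coh.HH X M n ≃ₗ[B] B ⊗[A] E.{u} D (freeAb ⊤) n :=
    TensorProduct.AlgebraTensorModule.congr (LinearEquiv.refl B B) (hhE g M ψ ψ' hψ n)
  let j : Coh.HH X' (gM g M) n ≃+ HU (⊤ : X.Opens) D.N n :=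
    (HHEquiv (gM g M) n).trans (e _ hN)
  refine ⟨AddEquiv.toLinearEquiv
    ((i.toAddEquiv.trans (AddEquiv.ofBijective (θ D (freeAb ⊤) n) hgood)).trans j.symm) fun c t => ?_⟩
  refine j.injective ?_
  simp only [AddEquiv.trans_apply, AddEquiv.apply_symm_apply, AddEquiv.ofBijective_apply]
  show θ D (freeAb ⊤) n (i (c • t)) =
    e _ hN (HEquiv (Coh.toAb (gM g M)) n (Sheaf.H.map (Coh.smulAb (gM g M) (ψ' c)) n
      (j.symm (θ D (freeAb ⊤) n (i t)))))
  rw [map_smul, θ_smul, HEquiv_map, he _ _ hN hN]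
  exact congrArg (fun z => hmap (⊤ : X.Opens) ((pushS g.base).map (Coh.smulAb (gM g M) (ψ' c))) n z)
    (j.apply_symm_apply _).symm

end Groth.Agent.FlatBC

namespace Groth.Agent.FlatBC

section Affine

variable {X S X' S' : Scheme.{u}} {f : X ⟶ S} {f' : X' ⟶ S'} {g' : X' ⟶ X} {g : S' ⟶ S}
  (hc : IsPullback g' f' f g) [IsAffine S] [IsAffine S'] (M : X.Modules) [Coh.IsQCoh M]
variable {A B : Type u} [CommRing A] [CommRing B] [Algebra A B]
variable (a : A ≃+* Γ(S, ⊤)) (b : B ≃+* Γ(S', ⊤)) (hab : ∀ x, g.appTop (a x) = b (algebraMap A B x))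

include hc hab in
/-- The hypothesis on global functions. -/
lemma comp_toGlobal (x : A) :
    (f'.appTop.hom.comp b.toRingHom) (algebraMap A B x) = ProperFin.gTop g' ((f.appTop.hom.comp a.toRingHom) x) := by
  show f'.appTop (b (algebraMap A B x)) = g'.appTop (f.appTop (a x))
  rw [← hab, ← CategoryTheory.ConcreteCategory.comp_apply, ← CategoryTheory.ConcreteCategory.comp_apply,
    ← Scheme.Hom.comp_appTop, ← Scheme.Hom.comp_appTop, hc.w]

omit [IsAffine S] [IsAffine S'] [Coh.IsQCoh M] [Algebra A B] in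
/-- The action of the base on global functions. -/
def globalHom {Y T : Scheme.{u}} {R : Type u} [CommRing R] (h : Y ⟶ T) (r : R ≃+* Γ(T, ⊤)) : R →+* Coh.Γtop Y :=
  h.appTop.hom.comp r.toRingHom

/-- The degree zero comparison on affine opens. -/
theorem good_affine (U : X.Opens) (hU : IsAffineOpen U) :
    Good.{u} (datum g' M (f.appTop.hom.comp a.toRingHom) (f'.appTop.hom.comp b.toRingHom)
      (comp_toGlobal hc a b hab)) (freeAb U) 0 := by
  let D := datum g' M (f.appTop.hom.comp a.toRingHom) (f'.appTop.hom.comp b.toRingHom) (comp_toGlobal hc a b hab)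
  have e0 : U ≤ f ⁻¹ᵁ ⊤ := le_top
  obtain ⟨hW', hpo⟩ := PullbackMod.isPushout_appLE hc (isAffineOpen_top S) hU (isAffineOpen_top S') e0 le_top
  let W' := g' ⁻¹ᵁ U ⊓ f' ⁻¹ᵁ ⊤
  have hW : g' ⁻¹ᵁ U ≤ W' := le_inf le_rfl le_top
  letI : Algebra Γ(S, ⊤) Γ(X, U) := (f.appLE ⊤ U e0).hom.toAlgebra
  letI : Algebra Γ(S, ⊤) Γ(S', ⊤) := (g.appLE ⊤ ⊤ le_top).hom.toAlgebra
  letI : Algebra Γ(X, U) Γ(X', W') := (g'.appLE U W' inf_le_left).hom.toAlgebra
  letI : Algebra Γ(S', ⊤) Γ(X', W') := (f'.appLE ⊤ W' inf_le_right).hom.toAlgebra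
  letI : Algebra Γ(S, ⊤) Γ(X', W') := ((g'.appLE U W' inf_le_left).hom.comp (f.appLE ⊤ U e0).hom).toAlgebra
  haveI : IsScalarTower Γ(S, ⊤) Γ(X, U) Γ(X', W') := .of_algebraMap_eq fun _ => rfl
  haveI : IsScalarTower Γ(S, ⊤) Γ(S', ⊤) Γ(X', W') := .of_algebraMap_eq' (by
      show ((f.appLE ⊤ U e0) ≫ g'.appLE U _ inf_le_left).hom =
        ((g.appLE ⊤ ⊤ le_top) ≫ f'.appLE ⊤ _ inf_le_right).hom
      simp only [Scheme.Hom.appLE_comp_appLE, hc.w])
  haveI : Algebra.IsPushout Γ(S, ⊤) Γ(S', ⊤) Γ(X, U) Γ(X', W') := hpo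
  letI : Module Γ(S, ⊤) Γ(M, U) := Module.compHom _ (f.appLE ⊤ U e0).hom
  haveI : IsScalarTower Γ(S, ⊤) Γ(X, U) Γ(M, U) := .of_algebraMap_smul fun _ _ => rfl
  letI : Module Γ(X, U) Γ(gM g' M, W') := Module.compHom _ (g'.appLE U W' inf_le_left).hom
  haveI : IsScalarTower Γ(X, U) Γ(X', W') Γ(gM g' M, W') := .of_algebraMap_smul fun _ _ => rfl
  have hb := PullbackMod.isBaseChange_pullMapL g' M hU hW' inf_le_left
  let L := ((Algebra.IsPushout.cancelBaseChange Γ(S, ⊤) Γ(S', ⊤) Γ(X, U) Γ(X', W') Γ(M, U)).symm.toAddEquiv.trans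
    hb.equiv.toAddEquiv)
  have hL : ∀ (s : Γ(S', ⊤)) (m : Γ(M, U)), L (s ⊗ₜ m) =
      f'.appLE ⊤ W' inf_le_right s • PullbackMod.pullMap g' M inf_le_left m := fun s m => by
    show hb.equiv ((Algebra.IsPushout.cancelBaseChange _ _ _ _ _).symm (s ⊗ₜ m)) = _
    rw [Algebra.IsPushout.cancelBaseChange_symm_tmul, hb.equiv_tmul]
    rfl
  -- degree zero classes are sections
  let κ : E.{u} D (freeAb U) 0 ≃+ Γ(M, U) := H0Equiv U (Coh.toAb M)
  have hκ : ∀ (x : A) (c : E.{u} D (freeAb U) 0), κ (x • c) = (a x) • κ c := fun x c => by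
    refine (H0Equiv_hmap U (Coh.smulAb M (f.appTop (a x))) c).trans ?_
    rw [Coh.smulAb_app]
    rfl
  -- change of scalars along `a` and `b`
  let T : B ⊗[A] E.{u} D (freeAb U) 0 →+ Γ(S', ⊤) ⊗[Γ(S, ⊤)] Γ(M, U) := TensorProduct.liftAddHom
    { toFun := fun s => (TensorProduct.mk Γ(S, ⊤) Γ(S', ⊤) Γ(M, U) (b s)).toAddMonoidHom.comp κ.toAddMonoidHom
      map_zero' := by
        ext c
        show (b 0) ⊗ₜ[Γ(S, ⊤)] κ c = 0
        rw [map_zero, TensorProduct.zero_tmul]
      map_add' := fun s s' => by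
        ext c
        show (b (s + s')) ⊗ₜ[Γ(S, ⊤)] κ c = (b s) ⊗ₜ κ c + (b s') ⊗ₜ κ c
        rw [map_add, TensorProduct.add_tmul] }
    fun x s c => by
      show (b (x • s)) ⊗ₜ[Γ(S, ⊤)] κ c = (b s) ⊗ₜ κ (x • c)
      rw [hκ, TensorProduct.tmul_smul, TensorProduct.smul_tmul', Algebra.smul_def, map_mul, ← hab,
        Algebra.smul_def]
      congr 2
      show g.appTop (a x) = g.appLE ⊤ ⊤ le_top (a x)
      exact (congr($(Scheme.Hom.appLE_eq_app (f := g) (U := ⊤)) (a x))).symm
  have hT : Function.Bijective T := by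
    let U' : Γ(S', ⊤) ⊗[Γ(S, ⊤)] Γ(M, U) →+ B ⊗[A] E.{u} D (freeAb U) 0 := TensorProduct.liftAddHom
      { toFun := fun s => (TensorProduct.mk A B (E.{u} D (freeAb U) 0) (b.symm s)).toAddMonoidHom.comp
          κ.symm.toAddMonoidHom
        map_zero' := by
          ext c
          show (b.symm 0) ⊗ₜ[A] κ.symm c = 0
          rw [map_zero, TensorProduct.zero_tmul]
        map_add' := fun s s' => by
          ext c
          show (b.symm (s + s')) ⊗ₜ[A] κ.symm c = (b.symm s) ⊗ₜ κ.symm c + (b.symm s') ⊗ₜ κ.symm c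
          rw [map_add, TensorProduct.add_tmul] }
      fun r s c => by
        show (b.symm (r • s)) ⊗ₜ[A] κ.symm c = (b.symm s) ⊗ₜ κ.symm (r • c)
        obtain ⟨x, rfl⟩ := a.surjective r
        rw [show κ.symm (a x • c) = x • κ.symm c from
          κ.injective (by rw [AddEquiv.apply_symm_apply, hκ, AddEquiv.apply_symm_apply]),
          TensorProduct.tmul_smul, TensorProduct.smul_tmul', Algebra.smul_def (A := B)]
        congr 1
        apply b.injective
        rw [map_mul, RingEquiv.apply_symm_apply, RingEquiv.apply_symm_apply, ← hab, Algebra.smul_def]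
        congr 1
        show g.appLE ⊤ ⊤ le_top (a x) = g.appTop (a x)
        exact congr($(Scheme.Hom.appLE_eq_app (f := g) (U := ⊤)) (a x))
    refine Function.bijective_iff_has_inverse.mpr ⟨U', fun t => ?_, fun t => ?_⟩
    · induction t using TensorProduct.induction_on with
      | zero => rw [map_zero, map_zero]
      | tmul s c =>
        show (b.symm (b s)) ⊗ₜ[A] κ.symm (κ c) = s ⊗ₜ c
        rw [RingEquiv.symm_apply_apply, AddEquiv.symm_apply_apply]
      | add x y hx hy => rw [map_add, map_add, hx, hy]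
    · induction t using TensorProduct.induction_on with
      | zero => rw [map_zero, map_zero]
      | tmul s c =>
        show (b (b.symm s)) ⊗ₜ[Γ(S, ⊤)] κ (κ.symm c) = s ⊗ₜ c
        rw [RingEquiv.apply_symm_apply, AddEquiv.apply_symm_apply]
      | add x y hx hy => rw [map_add, map_add, hx, hy]
  let r : Γ(gM g' M, g' ⁻¹ᵁ U) →+ Γ(gM g' M, W') :=
    ((gM g' M).presheaf.map (homOfLE (inf_le_left : W' ≤ g' ⁻¹ᵁ U)).op).hom
  have hr : Function.Bijective r := PullbackMod.res_bijective (gM g' M) inf_le_left hW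
  let K : HU U D.N 0 →+ Γ(gM g' M, W') := r.comp (H0Equiv U D.N).toAddMonoidHom
  have hK : Function.Bijective K := hr.comp (H0Equiv U D.N).bijective
  have key : ∀ t, K (θ D (freeAb U) 0 t) = L (T t) := fun t => by
    induction t using TensorProduct.induction_on with
    | zero => rw [map_zero, map_zero, map_zero, map_zero]
    | tmul s c =>
      show r (H0Equiv U D.N (hmap U (D.η ≫ D.σ s) 0 c)) = L ((b s) ⊗ₜ κ c)
      rw [hL, H0Equiv_hmap]
      refine ((gM g' M).map_smul (homOfLE (inf_le_left : W' ≤ g' ⁻¹ᵁ U)) _ _).trans ?_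
      congr 1
      show X'.presheaf.map _ (X'.presheaf.map _ (f'.appTop (b s))) = f'.appLE ⊤ W' inf_le_right (b s)
      rw [← CategoryTheory.ConcreteCategory.comp_apply, ← Functor.map_comp]
      rfl
    | add x y hx hy => rw [map_add, map_add, map_add, map_add, hx, hy]
  refine ⟨fun x y h => hT.1 (L.injective ?_), fun y => ?_⟩
  · rw [← key, ← key, h]
  · obtain ⟨t, ht⟩ := hT.2 (L.symm (K y))
    exact ⟨t, hK.1 (by rw [key, ht, AddEquiv.apply_symm_apply])⟩

include hc hab in
/-- Flat base change over affine bases. -/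
theorem nonempty_affine [Module.Flat A B] [CompactSpace X] [QuasiSeparatedSpace X] (n : ℕ) :
    letI : Module A (Coh.HH X M n) := Module.compHom _ (globalHom f a)
    letI : Module B (Coh.HH X' (gM g' M) n) := Module.compHom _ (globalHom f' b)
    Nonempty (B ⊗[A] Coh.HH X M n ≃ₗ[B] Coh.HH X' (gM g' M) n) := by
  haveI : IsAffineHom g' := MorphismProperty.of_isPullback (P := @IsAffineHom) hc.flip inferInstance
  exact nonempty_baseChange g' M _ _ (comp_toGlobal hc a b hab) (good_affine hc M a b hab) n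

end Affine

end Groth.Agent.FlatBC
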