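import Groth.Agent.FlatBC.Scheme

/-!
# Base change of cohomology along finite projective algebras, without finiteness on the space
-/

set_option autoImplicit false
set_option backward.isDefEq.respectTransparency false
set_option linter.style.haveILetI false

universe u

open CategoryTheory CategoryTheory.Limits AlgebraicGeometry TopologicalSpace Opposite Abelian
open Groth.Agent.CohBase
open scoped TensorProduct

noncomputable section

namespace Groth.Agent.FlatBC

variable {X : Scheme.{u}}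

/-- A morphism of abelian sheaves vanishes if it does on affine sections. -/
theorem eq_zero_of_affine {F G : AbSh X} (v : F ⟶ G)
    (h : ∀ U : X.Opens, IsAffineOpen U → ∀ x : HU U F 0, hmap U v 0 x = 0) : v = 0 := by
  ext U s
  obtain ⟨ι, W, hW, hWU, hcov⟩ : ∃ (ι : Type u) (W : ι → X.Opens), (∀ i, IsAffineOpen (W i)) ∧
      (∀ i, W i ≤ U.unop) ∧ U.unop ≤ iSup W := by
    refine ⟨{V : X.Opens // IsAffineOpen V ∧ V ≤ U.unop}, fun V => V.1, fun V => V.2.1, fun V => V.2.2, fun x hx => ?_⟩
    obtain ⟨_, ⟨V, hV, rfl⟩, hxV, hVU⟩ := X.isBasis_affineOpens.exists_subset_of_mem_open (a := x) hx U.unop.2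
    exact Opens.mem_iSup.2 ⟨⟨V, hV, hVU⟩, hxV⟩
  refine TopCat.Sheaf.eq_of_locally_eq' (⟨G.obj, G.property⟩ : TopCat.Sheaf Ab X) W U.unop
    (fun i => homOfLE (hWU i)) hcov _ _ fun i => ?_
  obtain ⟨x, hx⟩ := (H0Equiv (W i) F).surjective (F.obj.map (homOfLE (hWU i)).op s)
  have h1 := H0Equiv_hmap (W i) v x
  rw [h _ (hW i), map_zero, hx] at h1
  exact (CategoryTheory.congr_fun (v.hom.naturality (homOfLE (hWU i)).op) s).symm.trans
    (h1.symm.trans (map_zero _).symm)

variable {A B : Type u} [CommRing A] [CommRing B] [Algebra A B] (D : Datum (AbSh X) A B)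

theorem act_tmul (P : AbSh X) (n : ℕ) (a : A) (x : E.{u} D P n) :
    (show Ext.{u} P D.F n from (a • x)) = (show Ext.{u} P D.F n from x).comp (Ext.mk₀ (D.ρ a)) (add_zero n) := rfl

/-- For a finite projective algebra the comparison is bijective everywhere, if it is on affine opens in
degree zero. -/
theorem good_of_projective [Module.Finite A B] [Module.Projective A B]
    (h0 : ∀ U : X.Opens, IsAffineOpen U → Good.{u} D (freeAb U) 0) (P : AbSh X) (n : ℕ) :
    Good.{u} D P n := by
  classical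
  obtain ⟨m, f, g, hf, -, hfg⟩ := Module.Finite.exists_comp_eq_id_of_projective A B
  let b : Fin m → B := fun i => f (Pi.single i 1)
  let φ : Fin m → B →ₗ[A] A := fun i => LinearMap.proj i ∘ₗ g
  have hb : ∀ x : B, ∑ i, φ i x • b i = x := fun x => by
    have h1 : f (g x) = x := LinearMap.congr_fun hfg x
    conv_rhs => rw [← h1, ← Finset.univ_sum_single (g x)]
    rw [map_sum]
    refine Finset.sum_congr rfl fun i _ => ?_
    show g x i • f (Pi.single i 1) = f (Pi.single i (g x i))
    rw [← map_smul, ← Pi.single_smul', smul_eq_mul, mul_one]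
  haveI : HasFiniteBiproducts (AbSh X) := HasFiniteBiproducts.of_hasFiniteProducts
  let e : B → (D.F ⟶ D.N) := fun x => D.η ≫ D.σ x
  have he : ∀ x, e x = ∑ i, D.ρ (φ i x) ≫ e (b i) := fun x => by
    conv_lhs => rw [← hb x]
    simp only [e, map_sum]
    refine (Preadditive.comp_sum _ _ _).trans ?_
    refine Finset.sum_congr rfl fun i _ => ?_
    rw [← Category.assoc, D.comm, Category.assoc, Algebra.smul_def, mul_comm, map_mul]
    rfl
  let Ψ : (⨁ fun _ : Fin m => D.F) ⟶ D.N := biproduct.desc fun j => e (b j)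
  let M : (⨁ fun _ : Fin m => D.F) ⟶ (⨁ fun _ : Fin m => D.F) :=
    biproduct.desc fun j => biproduct.lift fun i => D.ρ (φ i (b j))
  haveI : Epi Ψ := Preadditive.epi_of_cancel_zero Ψ fun {T} t ht => by
    refine eq_zero_of_affine t fun U hU x => ?_
    obtain ⟨c, rfl⟩ := (h0 U hU).2 x
    induction c using TensorProduct.induction_on with
    | zero => rw [map_zero, map_zero]
    | tmul y z =>
      rw [θ_tmul, hmap_apply, Ext.comp_assoc_of_second_deg_zero, Ext.mk₀_comp_mk₀]
      have h1 : e y ≫ t = 0 := by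
        rw [he y, Preadditive.sum_comp]
        refine Finset.sum_eq_zero fun j _ => ?_
        have : e (b j) ≫ t = 0 := by
          have := biproduct.ι _ j ≫= ht
          rwa [biproduct.ι_desc_assoc, comp_zero] at this
        rw [Category.assoc, this, comp_zero]
      rw [show (D.η ≫ D.σ y) ≫ t = 0 from h1, Ext.mk₀_zero, Ext.comp_zero]
    | add p q hp hq => rw [map_add, map_add, hp, hq, add_zero]
  have hM : kernel.ι Ψ ≫ M = 0 := by
    refine biproduct.hom_ext _ _ fun i => ?_
    rw [zero_comp]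
    refine eq_zero_of_affine _ fun U hU x => ?_
    let κ : Fin m → E.{u} D (freeAb U) 0 := fun j =>
      (show Ext (freeAb U) (kernel Ψ) 0 from x).comp (Ext.mk₀ (kernel.ι Ψ ≫ biproduct.π _ j)) (add_zero 0)
    have hz : θ D (freeAb U) 0 (∑ j, b j ⊗ₜ κ j) = 0 := by
      rw [map_sum]
      simp only [θ_tmul, κ, Ext.comp_assoc_of_second_deg_zero, Ext.mk₀_comp_mk₀]
      rw [← Ext.comp_sum, ← Ext.mk₀_sum, show (∑ j, (kernel.ι Ψ ≫ biproduct.π _ j) ≫ (D.η ≫ D.σ (b j))) = 0 by
        rw [show (0 : kernel Ψ ⟶ D.N) = kernel.ι Ψ ≫ Ψ from (kernel.condition Ψ).symm]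
        rw [show kernel.ι Ψ ≫ Ψ = kernel.ι Ψ ≫ ∑ j, biproduct.π _ j ≫ e (b j) from
          congrArg (kernel.ι Ψ ≫ ·) biproduct.desc_eq, Preadditive.comp_sum]
        simp only [Category.assoc]
        rfl]
      rw [Ext.mk₀_zero, Ext.comp_zero]
    have hz' := (h0 U hU).1 (hz.trans (map_zero _).symm)
    have hz'' := congrArg (fun t => TensorProduct.lid A _ ((φ i).rTensor (E.{u} D (freeAb U) 0) t)) hz'
    simp only [map_sum, LinearMap.rTensor_tmul, TensorProduct.lid_tmul, map_zero] at hz''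
    refine Eq.trans ?_ hz''
    simp only [κ, act_tmul, Ext.comp_assoc_of_second_deg_zero, Ext.mk₀_comp_mk₀]
    rw [hmap_apply]
    erw [← Ext.comp_sum, ← Ext.mk₀_sum]
    congr 2
    simp only [M, biproduct.desc_eq, Preadditive.comp_sum, Preadditive.sum_comp, Category.assoc,
      biproduct.lift_π]
  let s : D.N ⟶ (⨁ fun _ : Fin m => D.F) := Abelian.epiDesc Ψ M hM
  let p : Fin m → (D.N ⟶ D.F) := fun i => s ≫ biproduct.π _ i
  have hp : ∀ (x : B) (i : Fin m), e x ≫ p i = D.ρ (φ i x) := fun x i => by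
    have h1 : ∀ j, e (b j) ≫ p i = D.ρ (φ i (b j)) := fun j => by
      have h : Ψ ≫ s = M := Abelian.comp_epiDesc Ψ M hM
      have := biproduct.ι _ j ≫= h =≫ biproduct.π _ i
      simpa [Ψ, M, p] using this
    rw [he x, Preadditive.sum_comp]
    simp only [Category.assoc, h1]
    conv_rhs => rw [← hb x]
    rw [map_sum, map_sum]
    refine Finset.sum_congr rfl fun j _ => ?_
    rw [map_smul, smul_eq_mul, mul_comm, map_mul]
    rfl
  have hsum : ∑ i, p i ≫ e (b i) = 𝟙 D.N := by
    rw [← cancel_epi Ψ, Category.comp_id]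
    refine biproduct.hom_ext' _ _ fun j => ?_
    rw [Preadditive.comp_sum, Preadditive.comp_sum, biproduct.ι_desc]
    conv_rhs => rw [he (b j)]
    refine Finset.sum_congr rfl fun i _ => ?_
    rw [← Category.assoc, show biproduct.ι _ j ≫ Ψ = e (b j) from biproduct.ι_desc _ _, ← Category.assoc, hp]
  let inv : Ext.{u} P D.N n → B ⊗[A] E.{u} D P n := fun y =>
    ∑ i, b i ⊗ₜ (show E.{u} D P n from y.comp (Ext.mk₀ (p i)) (add_zero n))
  refine Function.bijective_iff_has_inverse.2 ⟨inv, fun t => ?_, fun y => ?_⟩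
  · induction t using TensorProduct.induction_on with
    | zero =>
      refine Finset.sum_eq_zero fun i _ => ?_
      rw [show (show E.{u} D P n from (θ D P n 0).comp (Ext.mk₀ (p i)) (add_zero n)) = 0 by
        rw [map_zero]; exact Ext.zero_comp .., TensorProduct.tmul_zero]
    | tmul x z =>
      have hx : ∀ i, (show E.{u} D P n from (θ D P n (x ⊗ₜ z)).comp (Ext.mk₀ (p i)) (add_zero n)) = φ i x • z := by
        intro i
        show (θ D P n (x ⊗ₜ z)).comp (Ext.mk₀ (p i)) (add_zero n) = _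
        rw [θ_tmul, Ext.comp_assoc_of_second_deg_zero, Ext.mk₀_comp_mk₀,
          show (D.η ≫ D.σ x) ≫ p i = D.ρ (φ i x) from hp x i]
        rfl
      simp only [inv, hx, TensorProduct.tmul_smul, TensorProduct.smul_tmul', ← TensorProduct.sum_tmul, hb]
    | add x z hx hz =>
      refine Eq.trans ?_ (congrArg₂ (· + ·) hx hz)
      simp only [inv, ← Finset.sum_add_distrib, ← TensorProduct.tmul_add]
      refine Finset.sum_congr rfl fun i _ => congrArg _ ?_
      show (θ D P n (x + z)).comp _ _ = _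
      rw [map_add, Ext.add_comp]
  · simp only [inv, map_sum, θ_tmul, Ext.comp_assoc_of_second_deg_zero, Ext.mk₀_comp_mk₀]
    rw [← Ext.comp_sum, ← Ext.mk₀_sum]
    show y.comp (Ext.mk₀ (∑ i, p i ≫ e (b i))) _ = y
    rw [hsum, Ext.comp_mk₀_id]


section Geometric

variable {X X' : Scheme.{u}} (g : X' ⟶ X) (M : X.Modules)
variable {A B : Type u} [CommRing A] [CommRing B] [Algebra A B]
variable (ψ : A →+* Coh.Γtop X) (ψ' : B →+* Coh.Γtop X')
variable (hψ : ∀ a, ψ' (algebraMap A B a) = ProperFin.gTop g (ψ a))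
variable [IsAffineHom g] [Coh.IsQCoh M]

/-- Base change of cohomology, given the comparison on affine opens in degree zero. -/
theorem nonempty_baseChange_projective [Module.Finite A B] [Module.Projective A B]
    (h0 : ∀ U : X.Opens, IsAffineOpen U → Good.{u} (datum g M ψ ψ' hψ) (freeAb U) 0) (n : ℕ) :
    letI : Module A (Coh.HH X M n) := Module.compHom _ ψ
    letI : Module B (Coh.HH X' (gM g M) n) := Module.compHom _ ψ'
    Nonempty (B ⊗[A] Coh.HH X M n ≃ₗ[B] Coh.HH X' (gM g M) n) := by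
  letI : Module A (Coh.HH X M n) := Module.compHom _ ψ
  letI : Module B (Coh.HH X' (gM g M) n) := Module.compHom _ ψ'
  let D := datum g M ψ ψ' hψ
  have hgood := good_of_projective D h0 (freeAb ⊤) n
  obtain ⟨e, he⟩ := exists_pushNatEquiv g.base (B := fun V : X.Opens => IsAffineOpen V)
    (fun W y hy => by
      obtain ⟨_, ⟨V : X.Opens, hV, rfl⟩, hyV, hVW⟩ :=
        X.isBasis_affineOpens.exists_subset_of_mem_open (a := y) hy W.2
      exact ⟨V, hV, hyV, hVW⟩) n
  let hN := pushAcyclic g M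
  let i : B ⊗[A] Coh.HH X M n ≃ₗ[B] B ⊗[A] E.{u} D (freeAb ⊤) n :=
    TensorProduct.AlgebraTensorModule.congr (LinearEquiv.refl B B) (hhE g M ψ ψ' hψ n)
  let j : Coh.HH X' (gM g M) n ≃+ HU (⊤ : X.Opens) D.N n :=
    (HHEquiv (gM g M) n).trans (e _ hN)
  refine ⟨AddEquiv.toLinearEquiv
    ((i.toAddEquiv.trans (AddEquiv.ofBijective (θ D (freeAb ⊤) n) hgood)).trans j.symm) fun c t => ?_⟩
  refine j.injective ?_
  simp only [AddEquiv.trans_apply, AddEquiv.apply_symm_apply, AddEquiv.ofBijective_apply]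
  show θ D (freeAb ⊤) n (i (c • t)) =
    e _ hN (HEquiv (Coh.toAb (gM g M)) n (Sheaf.H.map (Coh.smulAb (gM g M) (ψ' c)) n
      (j.symm (θ D (freeAb ⊤) n (i t)))))
  rw [map_smul, θ_smul, HEquiv_map, he _ _ hN hN]
  exact congrArg (fun z => hmap (⊤ : X.Opens) ((pushS g.base).map (Coh.smulAb (gM g M) (ψ' c))) n z)
    (j.apply_symm_apply _).symm

end Geometric

end Groth.Agent.FlatBC
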