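import Mathlib

/-!
# Flat base change of Ext groups: dévissage in the first argument

For `A → End F`, `B → End N` and a semilinear `η : F ⟶ N`, the comparison maps
`B ⊗[A] Ext P F n → Ext P N n` satisfy a five lemma in `P` when `B` is flat over `A`.
-/

set_option autoImplicit false

universe w v u v'

open CategoryTheory Limits Abelian
open scoped TensorProduct

noncomputable section

namespace Groth.Agent.FlatBC

variable {C : Type u} [Category.{v} C] [Abelian C] [HasExt.{w} C]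

/-- The data of the comparison. -/
structure Datum (C : Type u) [Category.{v} C] [Abelian C] (A B : Type v') [CommRing A] [CommRing B] [Algebra A B] where
  /-- the source -/
  F : C
  /-- the target -/
  N : C
  /-- the action on the source -/
  ρ : A →+* End F
  /-- the action on the target -/
  σ : B →+* End N
  /-- the map -/
  η : F ⟶ N
  comm : ∀ a, ρ a ≫ η = η ≫ σ (algebraMap A B a)

variable {A B : Type v'} [CommRing A] [CommRing B] [Algebra A B] (D : Datum C A B)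

/-- Ext into the source, as an `A`-module. -/
def E (P : C) (n : ℕ) : Type w := Ext.{w} P D.F n

instance (P : C) (n : ℕ) : AddCommGroup (E D P n) := inferInstanceAs (AddCommGroup (Ext.{w} P D.F n))

instance (P : C) (n : ℕ) : Module A (E D P n) where
  smul a x := (show Ext.{w} P D.F n from x).comp (Ext.mk₀ (D.ρ a)) (add_zero n)
  one_smul x := by
    show Ext.comp _ (Ext.mk₀ (D.ρ 1)) _ = _
    rw [map_one]
    exact Ext.comp_mk₀_id _
  mul_smul a b x := by
    show Ext.comp _ (Ext.mk₀ (D.ρ (a * b))) _ = Ext.comp (Ext.comp _ (Ext.mk₀ (D.ρ b)) _) (Ext.mk₀ (D.ρ a)) _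
    rw [Ext.comp_assoc_of_second_deg_zero, Ext.mk₀_comp_mk₀, map_mul]
    rfl
  smul_zero a := by
    show (0 : Ext.{w} P D.F n).comp (Ext.mk₀ (D.ρ a)) (add_zero n) = 0
    exact Ext.zero_comp ..
  smul_add a x y := Ext.add_comp _ _ _ _
  add_smul a b x := by
    show Ext.comp _ (Ext.mk₀ (D.ρ (a + b))) _ = _
    rw [map_add, Ext.mk₀_add, Ext.comp_add]
    rfl
  zero_smul x := by
    show Ext.comp _ (Ext.mk₀ (D.ρ 0)) _ = _
    rw [map_zero, Ext.mk₀_zero, Ext.comp_zero]
    rfl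

/-- Precomposition with an Ext class. -/
def pre {P Q : C} {k n m : ℕ} (e : Ext.{w} Q P k) (h : k + n = m) : E D P n →ₗ[A] E D Q m where
  toFun x := e.comp (show Ext.{w} P D.F n from x) h
  map_add' x y := Ext.comp_add _ _ _ _
  map_smul' a x := by
    show e.comp (Ext.comp _ (Ext.mk₀ (D.ρ a)) _) h = Ext.comp (e.comp _ h) (Ext.mk₀ (D.ρ a)) _
    rw [Ext.comp_assoc_of_third_deg_zero]

/-- One term of the comparison. -/
def θ₀ (P : C) (n : ℕ) (b : B) : E D P n →+ Ext.{w} P D.N n where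
  toFun x := (show Ext.{w} P D.F n from x).comp (Ext.mk₀ (D.η ≫ D.σ b)) (add_zero n)
  map_zero' := by
    show (0 : Ext.{w} P D.F n).comp (Ext.mk₀ (D.η ≫ D.σ b)) (add_zero n) = 0
    exact Ext.zero_comp ..
  map_add' x y := Ext.add_comp _ _ _ _

/-- The comparison. -/
def θ (P : C) (n : ℕ) : B ⊗[A] E D P n →+ Ext.{w} P D.N n :=
  TensorProduct.liftAddHom
    { toFun := θ₀ D P n
      map_zero' := by
        ext x
        show (show Ext.{w} P D.F n from x).comp (Ext.mk₀ (D.η ≫ D.σ 0)) (add_zero n) = 0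
        rw [map_zero, comp_zero, Ext.mk₀_zero, Ext.comp_zero]
      map_add' := fun b b' => by
        ext x
        show (show Ext.{w} P D.F n from x).comp (Ext.mk₀ (D.η ≫ D.σ (b + b'))) (add_zero n) =
          (show Ext.{w} P D.F n from x).comp (Ext.mk₀ (D.η ≫ D.σ b)) (add_zero n) +
            (show Ext.{w} P D.F n from x).comp (Ext.mk₀ (D.η ≫ D.σ b')) (add_zero n)
        rw [map_add, Preadditive.comp_add, Ext.mk₀_add, Ext.comp_add] }
    fun a b x => by
      show (show Ext.{w} P D.F n from x).comp (Ext.mk₀ (D.η ≫ D.σ (a • b))) (add_zero n) =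
        ((show Ext.{w} P D.F n from x).comp (Ext.mk₀ (D.ρ a)) (add_zero n)).comp (Ext.mk₀ (D.η ≫ D.σ b)) (add_zero n)
      rw [Ext.comp_assoc_of_second_deg_zero, Ext.mk₀_comp_mk₀, ← Category.assoc, D.comm, Category.assoc,
        Algebra.smul_def, mul_comm, map_mul]
      rfl

lemma θ_tmul (P : C) (n : ℕ) (b : B) (x : E D P n) :
    θ D P n (b ⊗ₜ x) = (show Ext.{w} P D.F n from x).comp (Ext.mk₀ (D.η ≫ D.σ b)) (add_zero n) :=
  rfl

lemma θ_pre {P Q : C} {k n m : ℕ} (e : Ext.{w} Q P k) (h : k + n = m) (t : B ⊗[A] E D P n) :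
    θ D Q m ((pre D e h).lTensor B t) = e.comp (θ D P n t) h := by
  induction t using TensorProduct.induction_on with
  | zero => rw [map_zero, map_zero, map_zero, Ext.comp_zero]
  | tmul b x =>
    rw [LinearMap.lTensor_tmul, θ_tmul, θ_tmul]
    show Ext.comp (e.comp _ h) _ _ = _
    rw [Ext.comp_assoc_of_third_deg_zero]
  | add x y hx hy => rw [map_add, map_add, map_add, hx, hy, Ext.comp_add]

lemma θ_smul (P : C) (n : ℕ) (c : B) (t : B ⊗[A] E D P n) :
    θ D P n (c • t) = (θ D P n t).comp (Ext.mk₀ (D.σ c)) (add_zero n) := by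
  induction t using TensorProduct.induction_on with
  | zero => rw [smul_zero, map_zero, Ext.zero_comp]
  | tmul b x =>
    rw [TensorProduct.smul_tmul', θ_tmul, θ_tmul, Ext.comp_assoc_of_second_deg_zero, Ext.mk₀_comp_mk₀,
      Category.assoc, smul_eq_mul, map_mul]
    rfl
  | add x y hx hy => rw [smul_add, map_add, map_add, hx, hy, Ext.add_comp]

/-- The comparison is bijective. -/
def Good (P : C) (n : ℕ) : Prop := Function.Bijective (θ D P n)

lemma good_of_isZero {P : C} (hP : IsZero P) (n : ℕ) : Good D P n := by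
  have h : ∀ {F : C} (x : Ext.{w} P F n), x = 0 := fun x => by
    rw [← Ext.mk₀_id_comp x, hP.eq_of_src (𝟙 P) 0, Ext.mk₀_zero, Ext.zero_comp]
  haveI : Subsingleton (E D P n) := subsingleton_of_forall_eq 0 fun x => h x
  haveI : Subsingleton (B ⊗[A] E D P n) := subsingleton_of_forall_eq 0 fun t => by
    induction t using TensorProduct.induction_on with
    | zero => rfl
    | tmul b x => rw [Subsingleton.elim x 0, TensorProduct.tmul_zero]
    | add x y hx hy => rw [hx, hy, add_zero]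
  exact ⟨fun x y _ => Subsingleton.elim x y, fun y => ⟨0, by rw [map_zero, h y]⟩⟩

lemma good_of_subsingleton (P : C) (n : ℕ) (h : Subsingleton (Ext.{w} P D.F n))
    (h' : Subsingleton (Ext.{w} P D.N n)) : Good D P n := by
  haveI : Subsingleton (E D P n) := h
  haveI : Subsingleton (B ⊗[A] E D P n) := subsingleton_of_forall_eq 0 fun t => by
    induction t using TensorProduct.induction_on with
    | zero => rfl
    | tmul b x => rw [Subsingleton.elim x 0, TensorProduct.tmul_zero]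
    | add x y hx hy => rw [hx, hy, add_zero]
  exact ⟨fun x y _ => Subsingleton.elim x y, fun y => ⟨0, Subsingleton.elim _ _⟩⟩

lemma θ_mk₀ {P Q : C} (φ : Q ⟶ P) (n : ℕ) (t : B ⊗[A] E D P n) :
    θ D Q n ((pre D (Ext.mk₀ φ) (zero_add n)).lTensor B t) = (Ext.mk₀ φ).comp (θ D P n t) (zero_add n) :=
  θ_pre D _ _ t

omit D in
/-- Classes on a biproduct. -/
lemma eq_biprod_decomp {P Q F : C} {n : ℕ} (x : Ext.{w} (P ⊞ Q) F n) :
    x = (Ext.mk₀ biprod.fst).comp ((Ext.mk₀ biprod.inl).comp x (zero_add n)) (zero_add n) +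
      (Ext.mk₀ biprod.snd).comp ((Ext.mk₀ biprod.inr).comp x (zero_add n)) (zero_add n) := by
  rw [Ext.mk₀_comp_mk₀_assoc, Ext.mk₀_comp_mk₀_assoc, ← Ext.add_comp, ← Ext.mk₀_add, biprod.total,
    Ext.mk₀_id_comp]

/-- Biproducts. -/
lemma good_biprod {P Q : C} {n : ℕ} (hP : Good D P n) (hQ : Good D Q n) : Good D (P ⊞ Q) n := by
  let u : B ⊗[A] E D P n →ₗ[A] B ⊗[A] E D (P ⊞ Q) n := (pre D (Ext.mk₀ biprod.fst) (zero_add n)).lTensor B
  let v : B ⊗[A] E D Q n →ₗ[A] B ⊗[A] E D (P ⊞ Q) n := (pre D (Ext.mk₀ biprod.snd) (zero_add n)).lTensor B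
  let p : B ⊗[A] E D (P ⊞ Q) n →ₗ[A] B ⊗[A] E D P n := (pre D (Ext.mk₀ biprod.inl) (zero_add n)).lTensor B
  let q : B ⊗[A] E D (P ⊞ Q) n →ₗ[A] B ⊗[A] E D Q n := (pre D (Ext.mk₀ biprod.inr) (zero_add n)).lTensor B
  have hdec : ∀ t, t = u (p t) + v (q t) := fun t => by
    simp only [u, v, p, q, ← LinearMap.comp_apply, ← LinearMap.lTensor_comp, ← LinearMap.add_apply,
      ← LinearMap.lTensor_add]
    conv_lhs => rw [← LinearMap.id_apply (R := A) t, ← LinearMap.lTensor_id]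
    congr 2
    exact LinearMap.ext fun x => eq_biprod_decomp (show Ext.{w} (P ⊞ Q) D.F n from x)
  refine ⟨(injective_iff_map_eq_zero _).2 fun t ht => ?_, fun y => ?_⟩
  · have h1 : p t = 0 := hP.1 (by rw [θ_mk₀, ht, map_zero, Ext.comp_zero])
    have h2 : q t = 0 := hQ.1 (by rw [θ_mk₀, ht, map_zero, Ext.comp_zero])
    rw [hdec t, h1, h2, map_zero, map_zero, add_zero]
  · obtain ⟨a, ha⟩ := hP.2 ((Ext.mk₀ biprod.inl).comp y (zero_add n))
    obtain ⟨b, hb⟩ := hQ.2 ((Ext.mk₀ biprod.inr).comp y (zero_add n))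
    refine ⟨u a + v b, ?_⟩
    rw [map_add, θ_mk₀, θ_mk₀, ha, hb, Ext.mk₀_comp_mk₀_assoc, Ext.mk₀_comp_mk₀_assoc, ← Ext.add_comp,
      ← Ext.mk₀_add, biprod.total, Ext.mk₀_id_comp]

variable [Module.Flat A B] {S : ShortComplex C} (hS : S.ShortExact)

include hS

/-- The five lemma in positive degrees. -/
lemma good_succ (n : ℕ) (h1 : Good D S.X₁ n) (h2 : Good D S.X₂ n) (h2' : Good D S.X₂ (n + 1))
    (h1' : Good D S.X₁ (n + 1)) : Good D S.X₃ (n + 1) := by
  let f₀ := pre D (Ext.mk₀ S.f) (zero_add n)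
  let δ := pre D hS.extClass (show 1 + n = n + 1 from add_comm 1 n)
  let g₁ := pre D (Ext.mk₀ S.g) (zero_add (n + 1))
  let f₁ := pre D (Ext.mk₀ S.f) (zero_add (n + 1))
  have e1 : Function.Exact f₀ δ := fun x => ⟨fun hx =>
    Ext.contravariant_sequence_exact₁ hS D.F x (add_comm 1 n) hx, by
      rintro ⟨y, rfl⟩
      show hS.extClass.comp ((Ext.mk₀ S.f).comp _ (zero_add n)) (add_comm 1 n) = 0
      rw [hS.extClass_comp_assoc]⟩
  have e2 : Function.Exact δ g₁ := fun x => ⟨fun hx =>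
    Ext.contravariant_sequence_exact₃ hS D.F x hx (add_comm 1 n), by
      rintro ⟨y, rfl⟩
      show (Ext.mk₀ S.g).comp (hS.extClass.comp _ (add_comm 1 n)) (zero_add (n + 1)) = 0
      rw [hS.comp_extClass_assoc]⟩
  have e3 : Function.Exact g₁ f₁ := fun x => ⟨fun hx =>
    Ext.contravariant_sequence_exact₂ hS D.F x hx, by
      rintro ⟨y, rfl⟩
      show (Ext.mk₀ S.f).comp ((Ext.mk₀ S.g).comp (show Ext.{w} S.X₃ D.F _ from y) (zero_add _)) (zero_add _) = 0
      rw [Ext.mk₀_comp_mk₀_assoc, S.zero, Ext.mk₀_zero, Ext.zero_comp]⟩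
  have t1 := Module.Flat.lTensor_exact B e1
  have t2 := Module.Flat.lTensor_exact B e2
  have t3 := Module.Flat.lTensor_exact B e3
  refine ⟨(injective_iff_map_eq_zero _).2 fun t ht => ?_, fun y => ?_⟩
  · have hg : g₁.lTensor B t = 0 := h2'.1 (by rw [θ_pre, ht, map_zero, Ext.comp_zero])
    obtain ⟨s, rfl⟩ := (t2 t).1 hg
    rw [θ_pre] at ht
    obtain ⟨w, hw⟩ := Ext.contravariant_sequence_exact₁ hS D.N _ (add_comm 1 n) ht
    obtain ⟨r, rfl⟩ := h2.2 w
    have : s = f₀.lTensor B r := h1.1 (by rw [θ_pre, hw])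
    rw [this]
    exact t1.apply_apply_eq_zero r
  · obtain ⟨t₂, ht₂⟩ := h2'.2 ((Ext.mk₀ S.g).comp y (zero_add (n + 1)))
    have hf : f₁.lTensor B t₂ = 0 := h1'.1 (by
      rw [θ_pre, ht₂, map_zero, Ext.mk₀_comp_mk₀_assoc, S.zero, Ext.mk₀_zero, Ext.zero_comp])
    obtain ⟨t₃, rfl⟩ := (t3 t₂).1 hf
    rw [θ_pre] at ht₂
    obtain ⟨z, hz⟩ := Ext.contravariant_sequence_exact₃ hS D.N (y - θ D S.X₃ (n + 1) t₃)
      (by rw [sub_eq_add_neg, Ext.comp_add, Ext.comp_neg, ht₂, add_neg_cancel]) (add_comm 1 n)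
    obtain ⟨s, rfl⟩ := h1.2 z
    exact ⟨t₃ + δ.lTensor B s, by rw [map_add, θ_pre, hz, add_sub_cancel]⟩

/-- The five lemma in degree zero. -/
lemma good_zero (h2 : Good D S.X₂ 0) (h1 : Good D S.X₁ 0) : Good D S.X₃ 0 := by
  haveI := hS.epi_g
  let g₁ := pre D (Ext.mk₀ S.g) (zero_add 0)
  let f₁ := pre D (Ext.mk₀ S.f) (zero_add 0)
  have e3 : Function.Exact g₁ f₁ := fun x => ⟨fun hx =>
    Ext.contravariant_sequence_exact₂ hS D.F x hx, by
      rintro ⟨y, rfl⟩
      show (Ext.mk₀ S.f).comp ((Ext.mk₀ S.g).comp (show Ext.{w} S.X₃ D.F _ from y) (zero_add _)) (zero_add _) = 0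
      rw [Ext.mk₀_comp_mk₀_assoc, S.zero, Ext.mk₀_zero, Ext.zero_comp]⟩
  have hinj : Function.Injective g₁ := Ext.precomp_mk₀_injective_of_epi D.F S.g
  have t3 := Module.Flat.lTensor_exact B e3
  have tinj := Module.Flat.lTensor_preserves_injective_linearMap (M := B) g₁ hinj
  refine ⟨(injective_iff_map_eq_zero _).2 fun t ht => ?_, fun y => ?_⟩
  · refine tinj ?_
    rw [map_zero]
    exact h2.1 (by rw [θ_pre, ht, map_zero, Ext.comp_zero])
  · obtain ⟨t₂, ht₂⟩ := h2.2 ((Ext.mk₀ S.g).comp y (zero_add 0))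
    have hf : f₁.lTensor B t₂ = 0 := h1.1 (by
      rw [θ_pre, ht₂, map_zero, Ext.mk₀_comp_mk₀_assoc, S.zero, Ext.mk₀_zero, Ext.zero_comp])
    obtain ⟨t₃, rfl⟩ := (t3 t₂).1 hf
    rw [θ_pre] at ht₂
    exact ⟨t₃, Ext.precomp_mk₀_injective_of_epi D.N S.g ht₂⟩

end Groth.Agent.FlatBC
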