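import Groth.Agent.FlatBC.Abstract
import Groth.Agent.CohBase.Affine
import Mathlib.AlgebraicGeometry.Morphisms.QuasiSeparated

/-!
# Flat base change of cohomology: from affine opens to quasi-compact opens
-/

set_option autoImplicit false

universe u

open CategoryTheory Limits Opposite TopologicalSpace AlgebraicGeometry Abelian
open Groth.Agent.CohBase

noncomputable section

namespace Groth.Agent.FlatBC

variable {X : Scheme.{u}} {A B : Type u} [CommRing A] [CommRing B] [Algebra A B] (D : Datum (AbSh X) A B)

/-- The comparison is bijective on an open in all degrees. -/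
def GoodU (U : X.Opens) : Prop := ∀ n, Good.{u} D (freeAb U) n

lemma goodU_bot : GoodU D ⊥ := fun n => good_of_isZero D isZero_freeAb_bot n

variable [Module.Flat A B]

/-- Mayer–Vietoris. -/
lemma goodU_sup (U V : X.Opens) (hU : GoodU D U) (hV : GoodU D V) (hUV : GoodU D (U ⊓ V)) :
    GoodU D (U ⊔ V) := by
  let S := Opens.mayerVietorisSquare U V
  have hS := S.shortComplex_shortExact
  have h2 : ∀ m, Good.{u} D S.shortComplex.X₂ m := fun m => good_biprod D (hU m) (hV m)
  have h1 : ∀ m, Good.{u} D S.shortComplex.X₁ m := fun m => hUV m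
  intro n
  cases n with
  | zero => exact good_zero D hS (h2 0) (h1 0)
  | succ n => exact good_succ D hS n (h1 n) (h2 n) (h2 (n + 1)) (h1 (n + 1))

/-- Finite unions in a family closed under intersections. -/
lemma goodU_iUnion (P : X.Opens → Prop) (hinf : ∀ {U V}, P U → P V → P (U ⊓ V))
    (hP : ∀ {U}, P U → GoodU D U) :
    ∀ (t : ℕ) (U : Fin t → X.Opens), (∀ a, P (U a)) → GoodU D (⨆ a, U a) := by
  intro t
  induction t with
  | zero =>
    intro U _
    rw [iSup_of_empty]
    exact goodU_bot D
  | succ t ih =>
    intro U hU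
    have he : (⨆ a, U a) = (⨆ a : Fin t, U a.castSucc) ⊔ U (Fin.last t) := by
      refine le_antisymm (iSup_le fun a => ?_) (sup_le (iSup_le fun a => le_iSup U _) (le_iSup U _))
      cases a using Fin.lastCases with
      | last => exact le_sup_right
      | cast a => exact (le_iSup (fun a : Fin t => U a.castSucc) a).trans le_sup_left
    rw [he]
    refine goodU_sup D _ _ (ih _ fun a => hU _) (hP (hU _)) ?_
    rw [iSup_inf_eq]
    exact ih _ fun a => hinf (hU _) (hU _)

/-- The comparison is bijective on all quasi-compact opens of a quasi-separated scheme. -/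
theorem goodU_of_affine [QuasiSeparatedSpace X]
    (hF : ∀ U : X.Opens, IsAffineOpen U → ∀ n, Subsingleton (HU U D.F (n + 1)))
    (hN : ∀ U : X.Opens, IsAffineOpen U → ∀ n, Subsingleton (HU U D.N (n + 1)))
    (h0 : ∀ U : X.Opens, IsAffineOpen U → Good.{u} D (freeAb U) 0)
    (U : X.Opens) (hU : IsCompact (U : Set X)) : GoodU D U := by
  have haff : ∀ V : X.Opens, IsAffineOpen V → GoodU D V := fun V hV n => by
    cases n with
    | zero => exact h0 V hV
    | succ n => exact good_of_subsingleton D _ _ (hF V hV n) (hN V hV n)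
  refine compact_open_induction_on (P := GoodU D) U hU (goodU_bot D) fun S hS V ih => ?_
  obtain ⟨t, W, hW, hWeq⟩ := exists_fin_basic V.2 (V := S ⊓ V.1) inf_le_right
    (hS.inter_of_isOpen V.2.isCompact S.2 V.1.2)
  refine goodU_sup D S V.1 ih (haff _ V.2) ?_
  rw [hWeq]
  exact goodU_iUnion D (IsBasicIn V.1) IsBasicIn.inf (fun h => haff _ (h.isAffineOpen V.2)) t W hW

end Groth.Agent.FlatBC
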